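import Cfsg.Agent.H47.CoxeterOrbit
import Cfsg.Prelude.Def_ChevStructure

/-!
Cartan matrices of B₂, G₂, D₄, F₄, E₆, E₇, E₈ in the numbering of the Chevalley tables, the
faithful reflection representations and the orders of the Coxeter groups.
-/

set_option autoImplicit false
set_option maxRecDepth 100000
set_option backward.isDefEq.respectTransparency false

namespace Cfsg.Agent.H47

/-- Cartan matrix of type B₂ (first root short). -/
def cartanB2 : Fin 2 → Fin 2 → ℤ := fun i j => ([[2, -2], [-1, 2]].getD i []).getD j 0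

/-- Cartan matrix of type G₂ (first root short). -/
def cartanG2 : Fin 2 → Fin 2 → ℤ := fun i j => ([[2, -3], [-1, 2]].getD i []).getD j 0

/-- Cartan matrix of type D₄ (second node central). -/
def cartanD4 : Fin 4 → Fin 4 → ℤ := fun i j =>
  ([[2, -1, 0, 0], [-1, 2, -1, -1], [0, -1, 2, 0], [0, -1, 0, 2]].getD i []).getD j 0

/-- Cartan matrix of type F₄ (first two roots short). -/
def cartanF4 : Fin 4 → Fin 4 → ℤ := fun i j =>
  ([[2, -1, 0, 0], [-1, 2, -2, 0], [0, -1, 2, -1], [0, 0, -1, 2]].getD i []).getD j 0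

/-- Cartan matrix of type E₆ (Bourbaki numbering). -/
def cartanE6 : Fin 6 → Fin 6 → ℤ := fun i j =>
  ([[2, 0, -1, 0, 0, 0], [0, 2, 0, -1, 0, 0], [-1, 0, 2, -1, 0, 0], [0, -1, -1, 2, -1, 0],
    [0, 0, 0, -1, 2, -1], [0, 0, 0, 0, -1, 2]].getD i []).getD j 0

/-- Cartan matrix of type E₇ (Bourbaki numbering). -/
def cartanE7 : Fin 7 → Fin 7 → ℤ := fun i j =>
  ([[2, 0, -1, 0, 0, 0, 0], [0, 2, 0, -1, 0, 0, 0], [-1, 0, 2, -1, 0, 0, 0],
    [0, -1, -1, 2, -1, 0, 0], [0, 0, 0, -1, 2, -1, 0], [0, 0, 0, 0, -1, 2, -1],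
    [0, 0, 0, 0, 0, -1, 2]].getD i []).getD j 0

/-- Cartan matrix of type E₈ (Bourbaki numbering). -/
def cartanE8 : Fin 8 → Fin 8 → ℤ := fun i j =>
  ([[2, 0, -1, 0, 0, 0, 0, 0], [0, 2, 0, -1, 0, 0, 0, 0], [-1, 0, 2, -1, 0, 0, 0, 0],
    [0, -1, -1, 2, -1, 0, 0, 0], [0, 0, 0, -1, 2, -1, 0, 0], [0, 0, 0, 0, -1, 2, -1, 0],
    [0, 0, 0, 0, 0, -1, 2, -1], [0, 0, 0, 0, 0, 0, -1, 2]].getD i []).getD j 0

theorem cartanFor_B2 : CartanFor (CoxeterMatrix.B 2) cartanB2 := by
  constructor <;> decide +kernel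

theorem cartanFor_G2 : CartanFor CoxeterMatrix.G₂ cartanG2 := by
  constructor <;> decide +kernel

theorem cartanFor_D4 : CartanFor Cfsg.Lie.coxeterD4 cartanD4 := by
  constructor <;> decide +kernel

theorem cartanFor_F4 : CartanFor CoxeterMatrix.F₄ cartanF4 := by
  constructor <;> decide +kernel

theorem cartanFor_E6 : CartanFor CoxeterMatrix.E₆ cartanE6 := by
  constructor <;> decide +kernel

theorem cartanFor_E7 : CartanFor CoxeterMatrix.E₇ cartanE7 := by
  constructor <;> decide +kernel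

theorem cartanFor_E8 : CartanFor CoxeterMatrix.E₈ cartanE8 := by
  constructor <;> decide +kernel

theorem card_coxeter_B2 : Nat.card (CoxeterMatrix.B 2).Group = 8 :=
  card_coxeterGroup cartanFor_B2 [2, 4] 10 8 (by decide +kernel) (by decide +kernel)

theorem card_coxeter_G2 : Nat.card CoxeterMatrix.G₂.Group = 12 :=
  card_coxeterGroup cartanFor_G2 [2, 6] 10 12 (by decide +kernel) (by decide +kernel)

theorem card_coxeter_D4 : Nat.card Cfsg.Lie.coxeterD4.Group = 192 :=
  card_coxeterGroup cartanFor_D4 [2, 3, 4, 8] 20 192 (by decide +kernel) (by decide +kernel)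

theorem card_coxeter_F4 : Nat.card CoxeterMatrix.F₄.Group = 1152 :=
  card_coxeterGroup cartanFor_F4 [2, 3, 8, 24] 30 1152 (by decide +kernel) (by decide +kernel)

theorem card_coxeter_E6 : Nat.card CoxeterMatrix.E₆.Group = 51840 :=
  card_coxeterGroup cartanFor_E6 [2, 2, 3, 10, 16, 27] 30 51840 (by decide +kernel) (by decide +kernel)

theorem card_coxeter_E7 : Nat.card CoxeterMatrix.E₇.Group = 2903040 :=
  card_coxeterGroup cartanFor_E7 [2, 2, 3, 10, 16, 27, 56] 40 2903040 (by decide +kernel)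
    (by decide +kernel)

theorem card_coxeter_E8 : Nat.card CoxeterMatrix.E₈.Group = 696729600 :=
  card_coxeterGroup cartanFor_E8 [2, 2, 3, 10, 16, 27, 56, 240] 80 696729600 (by decide +kernel)
    (by decide +kernel)

end Cfsg.Agent.H47
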