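import Cfsg.Agent.H47.RootEmbed

/-!
The centre of Steinberg's groups of types E₆ and E₇: the torus kernel, seen to be faithful through
the embedding into the group of type E₈.
-/

set_option autoImplicit false
set_option maxRecDepth 20000

namespace Cfsg.Agent.H47.CenterCard

open Cfsg.Lie Cfsg.Agent.H46 Cfsg.Agent.H70.Steinberg Cfsg.Agent.H47.RootEmbed

variable {D : ChevalleyDatum} {F : Type*} [Field F]

theorem prod_torusVal (G : Good D) (w : Fin D.rank → Fˣ) (m : Fin D.rank → ℤ) :
    ∏ j : Fin D.rank, G.torusVal w (D.simple j) ^ m j =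
      ∏ i : Fin D.rank, w i ^ (∑ j, m j * D.cartan i (D.simple j)) := by
  simp only [Good.torusVal, ← Finset.prod_zpow, ← zpow_mul]
  rw [Finset.prod_comm]
  refine Finset.prod_congr rfl fun i _ => ?_
  induction (Finset.univ : Finset (Fin D.rank)) using Finset.induction with
  | empty => simp
  | insert j s hj ih =>
    rw [Finset.prod_insert hj, Finset.sum_insert hj, ih, zpow_add, G.cartan_eq (G.simple_lt j.2) i.2,
      mul_comm (G.cartForm _ _) (m j)]

theorem torus_eq_one_of_simple (G : Good D) (w : Fin D.rank → Fˣ)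
    (h : ∀ j : Fin D.rank, G.torusVal w (D.simple j) = 1) : G.torus w = 1 := by
  refine (G.torus_eq_one_iff w).2 fun s hs => ?_
  have hs' : G.rc s = ∑ j : Fin D.rank, G.rc s j • G.rc (D.simple j) := by
    funext k
    rw [Finset.sum_apply, Finset.sum_eq_single k]
    · simp [G.rc_simple k.2]
    · intro b _ hb
      simp [G.rc_simple b.2, Pi.single_apply, Ne.symm hb]
    · intro hk; exact absurd (Finset.mem_univ k) hk
  have hlin : ∀ S : Finset (Fin D.rank), ∏ k : Fin D.rank, w k ^ G.cartForm k (∑ j ∈ S, G.rc s j • G.rc (D.simple j))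
      = ∏ j ∈ S, G.torusVal w (D.simple j) ^ G.rc s j := by
    intro S
    induction S using Finset.induction with
    | empty => simp [Good.cartForm]
    | insert a S ha ih =>
      simp only [Finset.sum_insert ha, Finset.prod_insert ha, G.cartForm_add, G.cartForm_smul, zpow_add,
        Finset.prod_mul_distrib, ih]
      congr 1
      rw [Good.torusVal, ← Finset.prod_zpow]
      exact Finset.prod_congr rfl fun k _ => by rw [← zpow_mul, mul_comm]
  rw [Good.torusVal, hs', hlin]
  exact Finset.prod_eq_one fun j _ => by rw [h j, one_zpow]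

/-- The certificate that the kernel of the torus is parametrised by the `n`-th roots of unity. -/
def kerChk (D : ChevalleyDatum) (n : ℕ) (k0 : ℕ) (c : List ℤ) (M : List (List ℤ)) (m : List ℤ) : Prop :=
  k0 < D.rank ∧ c.getD k0 0 = 1 ∧
  (∀ j : Fin D.rank, (∑ i : Fin D.rank, c.getD i 0 * D.cartan i (D.simple j)) % (n : ℤ) = 0) ∧
  (∀ k i : Fin D.rank, ∑ j : Fin D.rank, (M.getD k []).getD j 0 * D.cartan i (D.simple j) =
    (if i = k then 1 else 0) - (if i.val = k0 then c.getD k 0 else 0)) ∧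
  (∀ i : Fin D.rank, ∑ j : Fin D.rank, m.getD j 0 * D.cartan i (D.simple j) =
    if i.val = k0 then (n : ℤ) else 0)

theorem card_torus_ker [Fintype F] (G : Good D) {n k0 : ℕ} {c : List ℤ} {M : List (List ℤ)} {m : List ℤ}
    (h : kerChk D n k0 c M m) {q : ℕ} (hq : Fintype.card F = q) :
    Nat.card (G.torus (F := F)).ker = Nat.gcd n (q - 1) := by
  obtain ⟨hk0, hc0, hc, hM, hm⟩ := h
  have hmem : ∀ w : Fin D.rank → Fˣ, G.torus w = 1 →
      w ⟨k0, hk0⟩ ^ n = 1 ∧ ∀ k : Fin D.rank, w k = w ⟨k0, hk0⟩ ^ c.getD k 0 := by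
    intro w hw
    have h1 : ∀ m : Fin D.rank → ℤ, ∏ i : Fin D.rank, w i ^ (∑ j, m j * D.cartan i (D.simple j)) = 1 := by
      intro m
      rw [← prod_torusVal G]
      exact Finset.prod_eq_one fun j _ => by
        rw [(G.torus_eq_one_iff w).1 hw _ (G.simple_lt j.2), one_zpow]
    have hsing : ∀ (x : Fˣ) (a : ℤ) (i : Fin D.rank),
        (∏ k : Fin D.rank, (if k = i then x else 1) ^ a) = x ^ a := by
      intro x a i
      rw [Finset.prod_eq_single i] <;> simp +contextual
    constructor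
    · have := h1 fun j => m.getD j 0
      rw [Finset.prod_congr rfl fun i _ => by rw [hm i],
        Finset.prod_eq_single (⟨k0, hk0⟩ : Fin D.rank) ?_ (by simp)] at this
      · simpa using this
      · intro b _ hb
        rw [if_neg (fun e => hb (Fin.ext e)), zpow_zero]
    · intro k
      have := h1 fun j => (M.getD k []).getD j 0
      rw [Finset.prod_congr rfl fun i _ => by rw [hM k i, zpow_sub], Finset.prod_mul_distrib,
        Finset.prod_inv_distrib, Finset.prod_eq_single k ?_ (by simp),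
        Finset.prod_eq_single (⟨k0, hk0⟩ : Fin D.rank) ?_ (by simp), mul_inv_eq_one] at this
      · simpa using this
      · intro b _ hb
        rw [if_neg (fun e => hb (Fin.ext e)), zpow_zero]
      · intro b _ hb
        rw [if_neg hb, zpow_zero]
  have hback : ∀ z : Fˣ, z ^ n = 1 → G.torus (fun k => z ^ c.getD k.val 0) = 1 := by
    intro z hz
    refine torus_eq_one_of_simple G _ fun j => ?_
    rw [Good.torusVal]
    obtain ⟨d, hd⟩ := Int.dvd_of_emod_eq_zero (hc j)
    have e : ∀ S : Finset (Fin D.rank), ∏ k ∈ S, (z ^ c.getD k.val 0) ^ G.cartForm k (G.rc (D.simple j)) =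
        z ^ (∑ i ∈ S, c.getD i.val 0 * D.cartan i (D.simple j)) := by
      intro S
      induction S using Finset.induction with
      | empty => simp
      | insert a S ha ih =>
        rw [Finset.prod_insert ha, Finset.sum_insert ha, ih, zpow_add, ← zpow_mul,
          G.cartan_eq (G.simple_lt j.2) a.2]
    rw [e, hd, zpow_mul, zpow_natCast, hz, one_zpow]
  let e : (G.torus (F := F)).ker ≃ (powMonoidHom n : Fˣ →* Fˣ).ker :=
    { toFun := fun w => ⟨w.1 ⟨k0, hk0⟩, (hmem w.1 w.2).1⟩
      invFun := fun z => ⟨fun k => z.1 ^ c.getD k.val 0, hback z.1 z.2⟩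
      left_inv := fun w => Subtype.ext (funext fun k => ((hmem w.1 w.2).2 k).symm)
      right_inv := fun z => Subtype.ext (show z.1 ^ c.getD k0 0 = z.1 by rw [hc0, zpow_one]) }
  classical
  rw [Nat.card_congr e, IsCyclic.card_powMonoidHom_ker, Nat.card_eq_fintype_card, Fintype.card_units, hq,
    Nat.gcd_comm]

theorem card_center [Fintype F] (G : Good D) {E : ChevalleyDatum} (K : Good E) (hcert : Cert D)
    {L : List ℕ} (hL : RootEmbed.chk G K L = true) (MI : Fin E.rank → Fin E.rank → ℤ)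
    (hMI : ∀ k i : Fin E.rank, ∑ j, MI k j * E.cartan i (E.simple j) = if i = k then 1 else 0)
    {n k0 : ℕ} {c : List ℤ} {M : List (List ℤ)} {m : List ℤ} (hker : kerChk D n k0 c M m)
    {q : ℕ} (hq : Fintype.card F = q) :
    Nat.card (Subgroup.center (D.SteinbergGroup F)) = Nat.gcd n (q - 1) := by
  obtain ⟨hrank, -, hsimp, -, -⟩ := RootEmbed.chk_spec hL
  let P := groupPres G (F := F)
  have hmul : ∀ (i : ℕ) (a b : F), i < D.rank → a ≠ 0 → b ≠ 0 →
      P.H (D.simple i) a * P.H (D.simple i) b = P.H (D.simple i) (a * b) :=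
    fun i a b hi ha hb => H_mul_group G (G.simple_lt hi) ha hb
  let f : Fin D.rank → Fˣ →* D.SteinbergGroup F := fun i =>
    { toFun := fun a => P.H (D.simple i) (a : F)
      map_one' := by rw [Units.val_one, P.H_one (G.simple_lt i.2)]
      map_mul' := fun a b => by rw [Units.val_mul, hmul i _ _ i.2 a.ne_zero b.ne_zero] }
  have hf : Pairwise fun i j => ∀ x y : Fˣ, Commute (f i x) (f j y) := fun i j _ x y =>
    P.H_commute hcert hmul i.2 j.2 y.ne_zero x.ne_zero
  let χ := MonoidHom.noncommPiCoprod f hf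
  have hrange : P.HL ≤ χ.range := by
    rw [Pres.HL, Subgroup.closure_le]
    rintro _ ⟨i, a, hi, ha, rfl⟩
    exact ⟨Pi.mulSingle ⟨i, hi⟩ (Units.mk0 a ha), MonoidHom.noncommPiCoprod_mulSingle (ϕ := f) (hcomm := hf) _ _⟩
  have hπ : P.π.comp χ = G.torus := by
    refine MonoidHom.pi_ext fun i a => ?_
    rw [MonoidHom.comp_apply, MonoidHom.noncommPiCoprod_mulSingle]
    show P.π (P.H (D.simple i) (a : F)) = _
    rw [P.π_H (G.simple_lt i.2), G.torus_mulSingle]
  let φ : D.SteinbergGroup F →* GL E.Idx F := PresentedGroup.toGroup (RootEmbed.lift_rels (F := F) hL)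
  let ext : (Fin D.rank → Fˣ) →* (Fin E.rank → Fˣ) :=
    { toFun := fun w k => if h : k.val < D.rank then w ⟨k.val, h⟩ else 1
      map_one' := by funext k; simp
      map_mul' := fun u v => by funext k; simp only [Pi.mul_apply]; split <;> simp }
  have hφ : φ.comp χ = (K.torus (F := F)).comp ext := by
    refine MonoidHom.pi_ext fun i a => ?_
    rw [MonoidHom.comp_apply, MonoidHom.comp_apply, MonoidHom.noncommPiCoprod_mulSingle]
    show φ (P.H (D.simple i) (a : F)) = _
    rw [← mk_stH_group G]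
    show FreeGroup.lift (RootEmbed.esymb K L) (D.stH (D.simple i) (a : F)) = _
    rw [RootEmbed.lift_stH hL (G.simple_lt i.2), hsimp i i.2]
    rw [← K.torus_mulSingle (⟨i.val, lt_of_lt_of_le i.2 hrank⟩ : Fin E.rank)]
    congr 1
    funext k
    by_cases hk : k.val < D.rank
    · simp [ext, hk, Pi.mulSingle_apply, Fin.ext_iff]
    · simp [ext, hk, Pi.mulSingle_apply, Fin.ext_iff]
      intro e
      exact absurd (e ▸ i.2) hk
  have hKinj : ∀ w : Fin E.rank → Fˣ, K.torus w = 1 → w = 1 := by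
    intro w hw
    funext k
    have h1 := prod_torusVal K w (MI k)
    rw [Finset.prod_eq_one fun j _ => by rw [(K.torus_eq_one_iff w).1 hw _ (K.simple_lt j.2), one_zpow],
      Finset.prod_congr rfl fun i _ => by rw [hMI k i], Finset.prod_eq_single k ?_ (by simp)] at h1
    · simpa using h1.symm
    · intro b _ hb
      rw [if_neg hb, zpow_zero]
  have hinj : Function.Injective χ := by
    refine (injective_iff_map_eq_one _).2 fun w hw => ?_
    have h1 : K.torus (ext w) = 1 := by
      rw [← MonoidHom.comp_apply, ← hφ, MonoidHom.comp_apply, hw, map_one]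
    have h2 := hKinj _ h1
    funext k
    have := congrFun h2 ⟨k.val, lt_of_lt_of_le k.2 hrank⟩
    simpa [ext] using this
  have hcen : Subgroup.center (D.SteinbergGroup F) = (G.torus (F := F)).ker.map χ := by
    rw [← P.ker_eq_center hcert, P.ker_θ]
    ext z
    constructor
    · intro hz
      obtain ⟨w, rfl⟩ := hrange (P.ker_le_HL hcert hz)
      exact ⟨w, by rw [SetLike.mem_coe, MonoidHom.mem_ker, ← hπ]; exact hz, rfl⟩
    · rintro ⟨w, hw, rfl⟩
      rw [SetLike.mem_coe, MonoidHom.mem_ker, ← hπ] at hw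
      exact hw
  rw [hcen, ← card_torus_ker G hker hq]
  exact Nat.card_congr ((Subgroup.equivMapOfInjective _ _ hinj).symm.toEquiv)

/-- The roots of E6 among those of E8. -/
def embE6 : List ℕ := [35, 45, 51, 54, 55, 61, 64, 65, 68, 69, 70, 73, 74, 75, 76, 77, 83, 86, 87, 90, 91, 92, 95, 96, 97, 98, 101, 102, 103, 104, 107, 108, 109, 112, 113, 116, 123, 126, 127, 130, 131, 132, 135, 136, 137, 138, 141, 142, 143, 144, 147, 148, 149, 152, 153, 156, 162, 163, 164, 165, 166, 169, 170, 171, 174, 175, 178, 184, 185, 188, 194, 204]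

/-- The roots of E7 among those of E8. -/
def embE7 : List ℕ := [13, 20, 25, 29, 32, 34, 35, 39, 42, 44, 45, 48, 50, 51, 53, 54, 55, 58, 60, 61, 63, 64, 65, 67, 68, 69, 70, 72, 73, 74, 75, 76, 77, 80, 82, 83, 85, 86, 87, 89, 90, 91, 92, 94, 95, 96, 97, 98, 100, 101, 102, 103, 104, 106, 107, 108, 109, 111, 112, 113, 115, 116, 118, 121, 123, 124, 126, 127, 128, 130, 131, 132, 133, 135, 136, 137, 138, 139, 141, 142, 143, 144, 145, 147, 148, 149, 150, 152, 153, 154, 156, 157, 159, 162, 163, 164, 165, 166, 167, 169, 170, 171, 172, 174, 175, 176, 178, 179, 181, 184, 185, 186, 188, 189, 191, 194, 195, 197, 200, 204, 205, 207, 210, 214, 219, 226]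

theorem chk_E6 : RootEmbed.chk goodE6 goodE8 embE6 = true := by decide +kernel

theorem chk_E7 : RootEmbed.chk goodE7 goodE8 embE7 = true := by decide +kernel

theorem kerChk_E6 : kerChk chevE6 3 0 [1, 0, 2, 0, 1, 2]
    [[0, 0, 0, 0, 0, 0], [1, 2, 2, 3, 2, 1], [-1, 0, 0, 0, 0, 0], [2, 3, 4, 6, 4, 2], [0, 1, 1, 2, 2, 1],
      [-2, -1, -2, -2, -1, 0]] [4, 3, 5, 6, 4, 2] := by
  unfold kerChk
  decide +kernel

theorem kerChk_E7 : kerChk chevE7 2 1 [0, 1, 0, 0, 1, 0, 1]
    [[2, 2, 3, 4, 3, 2, 1], [0, 0, 0, 0, 0, 0, 0], [3, 4, 6, 8, 6, 4, 2], [4, 6, 8, 12, 9, 6, 3],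
      [1, 1, 2, 3, 3, 2, 1], [2, 3, 4, 6, 5, 4, 2], [-1, -2, -2, -3, -2, -1, 0]] [4, 7, 8, 12, 9, 6, 3] := by
  unfold kerChk
  decide +kernel

end Cfsg.Agent.H47.CenterCard
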