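import Cfsg.Agent.H70.Steinberg.Group

/-!
Steinberg's group of a datum whose tables embed into those of a larger datum maps into the larger
Chevalley group.
-/

set_option autoImplicit false

namespace Cfsg.Agent.H47.RootEmbed

open Cfsg.Lie Cfsg.Agent.H46 Cfsg.Agent.H70.Steinberg

/-- The root map of a list. -/
def ι (L : List ℕ) (r : ℕ) : ℕ := L.getD r 0

/-- The table check of an embedding of root data. -/
noncomputable def chk {D E : ChevalleyDatum} (G : Good D) (K : Good E) (L : List ℕ) : Bool :=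
  decide (D.rank ≤ E.rank) && decide ((List.range D.nroots).map (ι L)).Nodup &&
  ((List.range D.nroots).all fun r =>
    decide (ι L r < E.nroots) && Nat.beq (ι L (D.nroots - 1 - r)) (E.nroots - 1 - ι L r)) &&
  ((List.range D.rank).all fun i => decide (ι L (D.simple i) = E.simple i)) &&
  (List.range D.nroots).all fun r => (List.range D.nroots).all fun s =>
    eqItems (K.tab.ent (ι L r) (ι L s)) ((G.tab.ent r s).map fun q => (ι L q.1, q.2))

variable {D E : ChevalleyDatum} {G : Good D} {K : Good E} {L : List ℕ}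

theorem chk_spec (h : chk G K L = true) :
    D.rank ≤ E.rank ∧ (∀ r < D.nroots, ι L r < E.nroots ∧ E.neg (ι L r) = ι L (D.neg r)) ∧
    (∀ i < D.rank, ι L (D.simple i) = E.simple i) ∧
    (∀ r < D.nroots, ∀ s < D.nroots, E.chainEntry (ι L r) (ι L s) =
      (D.chainEntry r s).map fun q => (ι L q.1, q.2)) ∧
    ((List.range D.nroots).map (ι L)).Nodup := by
  simp only [chk, Bool.and_eq_true, decide_eq_true_eq, List.all_eq_true, List.mem_range, Nat.beq_eq] at h
  obtain ⟨⟨⟨⟨h1, h0⟩, h2⟩, h3⟩, h4⟩ := h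
  refine ⟨h1, fun r hr => ⟨(h2 r hr).1, ?_⟩, h3, fun r hr s hs => ?_, h0⟩
  · rw [K.neg_eq (h2 r hr).1, G.neg_eq hr, (h2 r hr).2]
  · rw [K.chainEntry_eq (h2 r hr).1 (h2 s hs).1, G.chainEntry_eq hr hs, eqItems_eq (h4 r hr s hs)]

theorem chainRoot_map (h : chk G K L = true) {r s : ℕ} (hr : r < D.nroots) (hs : s < D.nroots) (i : ℕ) :
    E.chainRoot (ι L r) (ι L s) i = (D.chainRoot r s i).map (ι L) ∧
      E.chainM (ι L r) (ι L s) i = D.chainM r s i := by
  simp only [ChevalleyDatum.chainRoot, ChevalleyDatum.chainM, (chk_spec h).2.2.2.1 r hr s hs, List.getElem?_map,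
    Option.map_map, Function.comp_def, and_self]

theorem chainRoot_lt {r s i k : ℕ} (hr : r < D.nroots) (hs : s < D.nroots)
    (hk : D.chainRoot r s (i + 1) = some k) (G : Good D) : k < D.nroots :=
  (G.chainRoot_spec hr hs hk).1

theorem filterMap_map_root {α : Type} (f : ℕ → ℕ) (C : List (Option ℕ × α)) :
    (C.filterMap fun c => c.1.map fun k => (k, c.2)).map (fun c => (f c.1, c.2)) =
      (C.map fun c => (c.1.map f, c.2)).filterMap fun c => c.1.map fun k => (k, c.2) := by
  induction C with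
  | nil => rfl
  | cons c C ih =>
    obtain ⟨o, a⟩ := c
    cases o <;> simp [ih]

theorem commTerms_map (h : chk G K L = true) {r s : ℕ} (hr : r < D.nroots) (hs : s < D.nroots) :
    E.commTerms (ι L r) (ι L s) = (D.commTerms r s).map fun c => (ι L c.1, c.2) := by
  have hR : ∀ {a b : ℕ}, a < D.nroots → b < D.nroots → ∀ i,
      E.chainRoot (ι L a) (ι L b) i = (D.chainRoot a b i).map (ι L) := fun ha hb i => (chainRoot_map h ha hb i).1
  have hM : ∀ {a b : ℕ}, a < D.nroots → b < D.nroots → ∀ i,
      E.chainM (ι L a) (ι L b) i = D.chainM a b i := fun ha hb i => (chainRoot_map h ha hb i).2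
  have hB : ∀ {a b c : ℕ}, a < D.nroots → b < D.nroots → c < D.nroots →
      (((D.chainRoot a b 3).map (ι L)).bind fun k => E.chainRoot k (ι L c) 1) =
        ((D.chainRoot a b 3).bind fun k => D.chainRoot k c 1).map (ι L) := by
    intro a b c ha hb hc
    cases hk : D.chainRoot a b 3 with
    | none => rfl
    | some k => exact hR (chainRoot_lt ha hb hk G) hc 1
  have hC : ∀ {a b c : ℕ}, a < D.nroots → b < D.nroots → c < D.nroots → ∀ f : ℤ → ℤ,
      ((((D.chainRoot a b 1).map (ι L)).map fun k => f (E.chainM k (ι L c) 2)).getD 0) =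
        (((D.chainRoot a b 1).map fun k => f (D.chainM k c 2)).getD 0) := by
    intro a b c ha hb hc f
    cases hk : D.chainRoot a b 1 with
    | none => rfl
    | some k => simp [hM (chainRoot_lt (i := 0) ha hb hk G) hc]
  simp only [ChevalleyDatum.commTerms]
  rw [hR hr hs, hR hr hs, hR hr hs, hR hs hr, hR hs hr, hM hr hs, hM hr hs, hM hr hs, hM hs hr, hM hs hr,
    hB hr hs hs, hB hs hr hr, hC hr hs hr (fun x => x / 3), hC hr hs hs (fun x => -2 * x / 3)]
  rw [filterMap_map_root (ι L)]
  rfl

variable {F : Type*} [Field F]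

/-- The images of the symbols. -/
noncomputable def esymb (K : Good E) (L : List ℕ) (p : Fin D.nroots × F) : GL E.Idx F :=
  K.xg (ι L p.1.val) p.2

theorem lift_stX {r : ℕ} (hr : r < D.nroots) (t : F) :
    FreeGroup.lift (esymb K L) (D.stX r t) = K.xg (ι L r) t := by
  simp [ChevalleyDatum.stX, hr, esymb]

theorem lift_stWord : ∀ w : List (ℕ × F), (∀ p ∈ w, p.1 < D.nroots) →
    FreeGroup.lift (esymb K L) (D.stWord w) = wordEval K.xg (w.map fun p => (ι L p.1, p.2))
  | [], _ => by simp [ChevalleyDatum.stWord, wordEval]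
  | p :: w, h => by
    have ih := lift_stWord w fun q hq => h q (List.mem_cons_of_mem _ hq)
    simp only [ChevalleyDatum.stWord, wordEval, List.map_cons, List.prod_cons, map_mul] at ih ⊢
    rw [ih, lift_stX (h p List.mem_cons_self)]

theorem lift_stH (h : chk G K L = true) {r : ℕ} (hr : r < D.nroots) (t : F) :
    FreeGroup.lift (esymb K L) (D.stH r t) = K.hg (ι L r) t := by
  rw [ChevalleyDatum.stH, lift_stWord _ ?_]
  · simp [wordEval, ChevalleyDatum.hWord, ChevalleyDatum.nWord, Good.hg, Good.ng, mul_assoc,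
      ((chk_spec h).2.1 r hr).2]
  · intro p hp
    simp only [ChevalleyDatum.hWord, ChevalleyDatum.nWord, List.mem_append, List.mem_cons, List.not_mem_nil,
      or_false] at hp
    rcases hp with (rfl | rfl | rfl) | (rfl | rfl | rfl) <;> first | exact hr | exact G.neg_lt hr

include G in
theorem lift_rels (h : chk G K L = true) :
    ∀ g ∈ D.steinbergRels F, FreeGroup.lift (esymb K L) g = 1 := by
  have hb := (chk_spec h).2.1
  rintro g ((⟨r, t, u, hr, rfl⟩ | ⟨r, s, t, u, hr, hs, h1, h2, rfl⟩) | ⟨r, t, u, hr, ht, hu, rfl⟩)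
  · simp [lift_stX hr, K.xg_add]
  · simp only [map_mul, map_inv, lift_stX hr, lift_stX hs, lift_stWord _ (commWord_lt G hr hs t u)]
    have hinj : ∀ {a b : ℕ}, a < D.nroots → b < D.nroots → ι L a = ι L b → a = b := by
      intro a b ha hb' e
      exact List.inj_on_of_nodup_map (chk_spec h).2.2.2.2 (List.mem_range.mpr ha) (List.mem_range.mpr hb') e
    have hw : (D.commWord F r s t u).map (fun p => (ι L p.1, p.2)) = E.commWord F (ι L r) (ι L s) t u := by
      simp only [ChevalleyDatum.commWord, commTerms_map h hr hs, List.map_map, Function.comp_def]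
    rw [hw, mul_assoc (_ * _) (K.xg (ι L s) u) (K.xg (ι L r) t),
      xg_comm K (hb r hr).1 (hb s hs).1 (fun e => h1 (hinj hs hr e))
        (fun e => h2 (hinj hs (G.neg_lt hr) (by rw [e, (hb r hr).2])))]
    group
  · simp only [map_mul, map_inv, lift_stH h hr, K.hg_mul_hg (hb r hr).1 ht hu, mul_inv_cancel]

end Cfsg.Agent.H47.RootEmbed
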